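import Mathlib
import Groth.Agent.DeformLib.FlatLift
import Groth.Agent.GeomRk.AnyExt
import Groth.Agent.CMGraded.Free

/-!
Hilbert function of a zero-dimensional complete intersection in projective space.
-/

universe u

open MvPolynomial

namespace BezoutCILib

open Groth.Agent

variable {k : Type u} [Field k] {σ : Type*}

/-- A homogeneous ideal is saturated for elements not vanishing at the origin. -/
theorem mem_of_mul_mem {J : Ideal (MvPolynomial σ k)} (hJ : CMGraded.IsHomog J) {u x : MvPolynomial σ k}
    (hu : constantCoeff u ≠ 0) (h : u * x ∈ J) : x ∈ J := by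
  classical
  have key : ∀ m, homogeneousComponent m x ∈ J := by
    intro m
    induction m using Nat.strong_induction_on with
    | _ m ih =>
      have hm := hJ _ h m
      rw [mul_comm, ← sum_homogeneousComponent u, Finset.mul_sum, map_sum,
        Finset.sum_eq_add_sum_sdiff_singleton_of_mem (Finset.mem_range.2 (Nat.succ_pos _)),
        CMGraded.homogeneousComponent_mul_of_isHomogeneous (homogeneousComponent_isHomogeneous 0 u) x m,
        if_pos (Nat.zero_le m), Nat.sub_zero] at hm
      have h0 : homogeneousComponent m x * homogeneousComponent 0 u ∈ J := by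
        refine (J.add_mem_iff_left (Ideal.sum_mem _ fun j hj => ?_)).1 hm
        rw [CMGraded.homogeneousComponent_mul_of_isHomogeneous (homogeneousComponent_isHomogeneous j u) x m]
        split_ifs with hjm
        · have : j ≠ 0 := by simpa using (Finset.mem_sdiff.1 hj).2
          exact J.mul_mem_right _ (ih _ (by omega))
        · exact J.zero_mem
      rw [homogeneousComponent_zero, ← constantCoeff_eq] at h0
      exact (Ideal.mul_unit_mem_iff_mem J ((isUnit_iff_ne_zero.2 hu).map C)).1 h0
  rw [← sum_homogeneousComponent x]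
  exact J.sum_mem fun m _ => key m

variable {n : ℕ}

/-- The variable ideal at the origin -/
noncomputable def orig (k : Type u) [Field k] (n : ℕ) : Ideal (MvPolynomial (Fin (n + 1)) k) :=
  RingHom.ker constantCoeff

instance : (orig k n).IsMaximal :=
  RingHom.ker_isMaximal_of_surjective _ (fun c => ⟨C c, constantCoeff_C _ c⟩)

lemma le_height_orig : ((n + 1 : ℕ) : ℕ∞) ≤ (orig k n).height := by
  classical
  let g : Fin (n + 2) → MvPolynomial (Fin (n + 1)) k →ₐ[k] MvPolynomial (Fin (n + 1)) k :=
    fun i => aeval fun l => if (l : ℕ) < i then 0 else X l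
  let p : Fin (n + 2) → PrimeSpectrum (MvPolynomial (Fin (n + 1)) k) := fun i =>
    ⟨RingHom.ker (g i).toRingHom, RingHom.ker_isPrime _⟩
  have hg : ∀ i j : Fin (n + 2), i ≤ j → ∀ z, g j (g i z) = g j z := by
    intro i j hij z
    have : (g j).comp (g i) = g j := by
      refine algHom_ext fun l => ?_
      simp only [g, AlgHom.comp_apply, aeval_X]
      by_cases hl : (l : ℕ) < i
      · have hij' : (i : ℕ) ≤ j := hij
        rw [if_pos hl, if_pos (by omega), map_zero]
      · rw [if_neg hl, aeval_X]
    exact DFunLike.congr_fun this z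
  have hlt : StrictMono p := by
    refine Fin.strictMono_iff_lt_succ.2 fun i => ?_
    refine lt_of_le_of_ne (fun z hz => ?_) fun h => ?_
    · show g i.succ z = 0
      rw [← hg i.castSucc i.succ i.castSucc_lt_succ.le z, show g i.castSucc z = 0 from hz, map_zero]
    · have hX : X i ∈ (p i.succ).asIdeal := by
        show g i.succ (X i) = 0
        simp [g]
      rw [← h] at hX
      have : g i.castSucc (X i) = 0 := hX
      simp [g] at this
  let s : LTSeries (PrimeSpectrum (MvPolynomial (Fin (n + 1)) k)) := LTSeries.mk (n + 1) p hlt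
  have hlast : s.last ≤ (⟨orig k n, inferInstance⟩ : PrimeSpectrum (MvPolynomial (Fin (n + 1)) k)) := by
    intro z hz
    have hz' : g (Fin.last (n + 1)) z = 0 := hz
    have hc : g (Fin.last (n + 1)) = (Algebra.ofId k _).comp (aeval fun _ => (0 : k)) := by
      refine algHom_ext fun l => ?_
      simp [g, Fin.is_le]
    rw [hc] at hz'
    show constantCoeff z = 0
    simpa [Algebra.ofId_apply, constantCoeff_eq] using hz'
  rw [PrimeSpectrum.height_eq_orderHeight (⟨orig k n, inferInstance⟩ : PrimeSpectrum _)]
  exact Order.length_le_height hlast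

lemma ringKrullDim_quotient_map_le {R L : Type u} [CommRing R] [CommRing L] [Algebra R L]
    (M : Submonoid R) [IsLocalization M L] (J : Ideal R) :
    ringKrullDim (L ⧸ J.map (algebraMap R L)) ≤ ringKrullDim (R ⧸ J) := by
  rw [ringKrullDim_quotient, ringKrullDim_quotient]
  refine Order.krullDim_le_of_strictMono
    (fun q => ⟨PrimeSpectrum.comap (algebraMap R L) q.1, fun x hx => q.2 (Ideal.mem_map_of_mem _ hx)⟩) ?_
  intro q q' h
  refine lt_of_le_of_ne (fun x hx => h.le hx) fun he => h.ne (Subtype.ext (PrimeSpectrum.ext ?_))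
  have he' := congrArg (fun z => z.1.asIdeal) he
  simp only [PrimeSpectrum.comap_asIdeal] at he'
  rw [← IsLocalization.map_under M L q.1.asIdeal, ← IsLocalization.map_under M L q'.1.asIdeal]
  exact congrArg (Ideal.map _) he'

/-- The forms are a regular sequence. -/
theorem regular_step (f : Fin n → MvPolynomial (Fin (n + 1)) k) (d : Fin n → ℕ) (hd : ∀ i, 1 ≤ d i)
    (hf : ∀ i, (f i).IsHomogeneous (d i))
    (hdim : ringKrullDim (MvPolynomial (Fin (n + 1)) k ⧸ Ideal.span (Set.range f)) ≤ 1)
    (i : Fin n) (x : MvPolynomial (Fin (n + 1)) k)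
    (hx : f i * x ∈ Ideal.span (f '' {j | j < i})) : x ∈ Ideal.span (f '' {j | j < i}) := by
  classical
  let L := Localization.AtPrime (orig k n)
  haveI : IsRegularLocalRing L := IsRegularRing.isRegularLocalRing_localization (orig k n)
  haveI : LocCoh.IsCohenMacaulayLocalRing L :=
    GorLib.isCohenMacaulay L (GorLib.gorensteinLocal_of_regular L)
  let F : Fin n → L := fun i => algebraMap _ L (f i)
  have hmem : ∀ y ∈ List.ofFn F, y ∈ IsLocalRing.maximalIdeal L := by
    intro y hy
    obtain ⟨j, rfl⟩ := List.mem_ofFn.1 hy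
    rw [← Localization.AtPrime.map_eq_maximalIdeal]
    refine Ideal.mem_map_of_mem _ (RingHom.mem_ker.2 ?_)
    rw [constantCoeff_eq]
    exact (hf j).coeff_eq_zero (by simp; exact (Nat.one_le_iff_ne_zero.1 (hd j)).symm)
  have hJ : Ideal.ofList (List.ofFn F) = (Ideal.span (Set.range f)).map (algebraMap _ L) := by
    rw [Ideal.map_span, ← Set.range_comp]
    unfold Ideal.ofList
    congr 1
    ext y
    simp [List.mem_ofFn, F]
  have hreg : RingTheory.Sequence.IsWeaklyRegular L (List.ofFn F) := by
    refine DeformLib.isWeaklyRegular_of_ringKrullDim _ hmem ?_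
    have hlow : ((n + 1 : ℕ) : WithBot ℕ∞) ≤ ringKrullDim L := by
      rw [IsLocalization.AtPrime.ringKrullDim_eq_height (orig k n) L]
      exact_mod_cast le_height_orig (k := k) (n := n)
    have hle : ringKrullDim (L ⧸ Ideal.ofList (List.ofFn F)) ≤ 1 := by
      rw [hJ]
      exact (ringKrullDim_quotient_map_le (orig k n).primeCompl _).trans hdim
    have hne : Ideal.ofList (List.ofFn F) ≤ IsLocalRing.maximalIdeal L := Ideal.span_le.2 hmem
    have hup := ringKrullDim_le_ringKrullDim_quotient_add_spanFinrank (Ideal.ofList (List.ofFn F))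
      (hne.trans ((Ring.jacobson_eq_sInf_isMaximal L).symm ▸ le_sInf fun M hM => (IsLocalRing.eq_maximalIdeal hM).ge))
    have hsp : (Ideal.ofList (List.ofFn F)).spanFinrank ≤ n := by
      have h1 : Ideal.ofList (List.ofFn F) = Submodule.span L (Set.range F) := by
        unfold Ideal.ofList
        congr 1
        ext y
        simp [List.mem_ofFn]
      rw [h1]
      refine (Submodule.spanFinrank_span_le_ncard_of_finite (Set.finite_range F)).trans ?_
      rw [← Nat.card_coe_set_eq]
      exact (Finite.card_range_le F).trans (by simp)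
    rw [List.length_ofFn]
    refine le_antisymm ?_ (hup.trans ?_)
    · refine le_trans ?_ hlow
      calc ringKrullDim (L ⧸ Ideal.ofList (List.ofFn F)) + (n : WithBot ℕ∞) ≤ 1 + (n : WithBot ℕ∞) := by
            gcongr
        _ = ((n + 1 : ℕ) : WithBot ℕ∞) := by push_cast; rw [add_comm]
    · gcongr
  have h1 := (RingTheory.Sequence.isWeaklyRegular_iff _ _).1 hreg i (by simp)
  have hset : Ideal.ofList ((List.ofFn F).take i) =
      (Ideal.span (f '' {j | j < i})).map (algebraMap _ L) := by
    rw [Ideal.map_span, Set.image_image]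
    unfold Ideal.ofList
    congr 1
    ext y
    simp only [List.mem_take_iff_getElem, Set.mem_image, Set.mem_setOf_eq, List.getElem_ofFn]
    constructor
    · rintro ⟨l, hl, rfl⟩
      simp only [List.length_ofFn, lt_min_iff] at hl
      exact ⟨⟨l, hl.2⟩, hl.1, rfl⟩
    · rintro ⟨j, hj, rfl⟩
      exact ⟨j, by simp only [List.length_ofFn, lt_min_iff]; exact ⟨hj, j.2⟩, rfl⟩
  rw [smul_eq_mul, Ideal.mul_top, hset, List.getElem_ofFn] at h1
  have h2 : algebraMap _ L x ∈ (Ideal.span (f '' {j | j < i})).map (algebraMap _ L) := by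
    rw [← Submodule.Quotient.mk_eq_zero]
    refine h1.right_eq_zero_of_smul ?_
    rw [← Submodule.Quotient.mk_smul, Submodule.Quotient.mk_eq_zero, smul_eq_mul]
    show algebraMap _ L (f i) * algebraMap _ L x ∈ _
    rw [← map_mul]
    exact Ideal.mem_map_of_mem _ hx
  obtain ⟨u, hu, hux⟩ := (IsLocalization.algebraMap_mem_map_algebraMap_iff (orig k n).primeCompl L _ _).1 h2
  exact mem_of_mul_mem (CMGraded.isHomog_span (by rintro g ⟨j, -, rfl⟩; exact ⟨d j, hf j⟩)) hu hux

theorem finrank_forms (m : ℕ) :
    Module.finrank k ↥(homogeneousSubmodule (Fin (n + 1)) k m) = (m + n).choose n := by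
  classical
  have e : {e : Fin (n + 1) →₀ ℕ | e.degree = m} ≃ (Finset.univ : Finset (Fin (n + 1))).finsuppAntidiag m :=
    Equiv.subtypeEquivRight fun e => by simp [Finset.mem_finsuppAntidiag, Finsupp.degree_eq_sum]
  rw [homogeneousSubmodule_eq_finsupp_supported]
  refine (Module.finrank_eq_card_basis
    ((basisRestrictSupport k {e : Fin (n + 1) →₀ ℕ | e.degree = m}).reindex e)).trans ?_
  rw [Fintype.card_coe, Finset.card_finsuppAntidiag_nat_eq_choose, Finset.card_univ, Fintype.card_fin,
    show n + 1 + m - 1 = m + n by omega]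
  exact Nat.choose_symm_add

/-- Hilbert function of `P / J` -/
noncomputable def hilb (J : Ideal (MvPolynomial (Fin (n + 1)) k)) (m : ℕ) : ℤ :=
  (Module.finrank k ↥(homogeneousSubmodule (Fin (n + 1)) k m) : ℤ) -
    Module.finrank k ↥(J.restrictScalars k ⊓ homogeneousSubmodule (Fin (n + 1)) k m)

theorem hilb_sup {J : Ideal (MvPolynomial (Fin (n + 1)) k)} (hJ : CMGraded.IsHomog J)
    {g : MvPolynomial (Fin (n + 1)) k} {d : ℕ} (hg : g.IsHomogeneous d)
    (hreg : ∀ x, g * x ∈ J → x ∈ J) (m : ℕ) :
    hilb (J ⊔ Ideal.span {g}) (m + d) = hilb J (m + d) - hilb J m := by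
  classical
  set H : ℕ → Submodule k (MvPolynomial (Fin (n + 1)) k) := homogeneousSubmodule (Fin (n + 1)) k
  haveI hfin : ∀ e, Module.Finite k ↥(H e) := fun e =>
    Module.Finite.iff_fg.mpr (homogeneousSubmodule_fg (Fin (n + 1)) k e)
  set A := J.restrictScalars k ⊓ H (m + d)
  set B := (J ⊔ Ideal.span {g}).restrictScalars k ⊓ H (m + d)
  have hAB : A ≤ B := inf_le_inf_right _ fun x hx => Ideal.mem_sup_left hx
  haveI : Module.Finite k ↥B := Submodule.finiteDimensional_of_le inf_le_right
  haveI : Module.Finite k ↥A := Submodule.finiteDimensional_of_le inf_le_right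
  haveI : Module.Finite k ↥(J.restrictScalars k ⊓ H m) := Submodule.finiteDimensional_of_le inf_le_right
  let φ : ↥(H m) →ₗ[k] ↥B ⧸ A.comap B.subtype :=
    (A.comap B.subtype).mkQ ∘ₗ (((LinearMap.mulLeft k g).comp (H m).subtype).codRestrict B fun x =>
      ⟨Ideal.mem_sup_right (Ideal.mul_mem_right _ _ (Ideal.mem_span_singleton_self g)), by
        have := hg.mul x.2
        rw [add_comm d m] at this
        exact this⟩)
  have hφ : ∀ x, φ x = 0 ↔ (x : MvPolynomial (Fin (n + 1)) k) ∈ J := by
    intro x
    simp only [φ, LinearMap.comp_apply, Submodule.mkQ_apply, Submodule.Quotient.mk_eq_zero, Submodule.mem_comap]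
    constructor
    · exact fun h => hreg _ h.1
    · intro h
      refine ⟨J.mul_mem_left _ h, ?_⟩
      have := hg.mul x.2
      rw [add_comm d m] at this
      exact this
  have hsurj : Function.Surjective φ := by
    intro b
    obtain ⟨⟨b, hb, hbd⟩, rfl⟩ := Submodule.mkQ_surjective _ b
    obtain ⟨a, ha, c, hc, rfl⟩ := Submodule.mem_sup.1 (Submodule.restrictScalars_mem k _ _ |>.1 hb)
    obtain ⟨c, rfl⟩ := Ideal.mem_span_singleton'.1 hc
    refine ⟨⟨homogeneousComponent m c, homogeneousComponent_isHomogeneous _ _⟩, ?_⟩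
    simp only [φ, LinearMap.comp_apply, Submodule.mkQ_apply]
    rw [Submodule.Quotient.eq]
    show g * homogeneousComponent m c - (a + c * g) ∈ A
    have hcomp : a + c * g = homogeneousComponent (m + d) a + homogeneousComponent m c * g := by
      conv_lhs => rw [← homogeneousComponent_eq_self hbd]
      rw [map_add, CMGraded.homogeneousComponent_mul_of_isHomogeneous hg, if_pos (by omega), Nat.add_sub_cancel]
    rw [hcomp, show g * homogeneousComponent m c - (homogeneousComponent (m + d) a + homogeneousComponent m c * g)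
      = -homogeneousComponent (m + d) a by ring]
    exact A.neg_mem ⟨hJ a ha _, homogeneousComponent_isHomogeneous _ _⟩
  have h1 := LinearMap.finrank_range_add_finrank_ker φ
  rw [LinearMap.range_eq_top.2 hsurj, finrank_top] at h1
  have hker : Module.finrank k ↥(LinearMap.ker φ) = Module.finrank k ↥(J.restrictScalars k ⊓ H m) := by
    rw [show LinearMap.ker φ = (J.restrictScalars k).comap (H m).subtype from
      Submodule.ext fun x => by simpa using hφ x]
    rw [← Submodule.finrank_map_subtype_eq, Submodule.map_comap_subtype, inf_comm]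
  have hA : Module.finrank k ↥(A.comap B.subtype) = Module.finrank k ↥A :=
    (Submodule.comapSubtypeEquivOfLe hAB).finrank_eq
  have h2 := Submodule.finrank_quotient_add_finrank (A.comap B.subtype)
  rw [hA] at h2
  rw [hker] at h1
  simp only [hilb]
  show _ - (Module.finrank k ↥B : ℤ) = (_ - (Module.finrank k ↥A : ℤ)) - _
  have e1 := congrArg (Nat.cast : ℕ → ℤ) h1
  have e2 := congrArg (Nat.cast : ℕ → ℤ) h2
  push_cast at e1 e2
  linarith

theorem hilb_eq (f : Fin n → MvPolynomial (Fin (n + 1)) k) (d : Fin n → ℕ) (hd : ∀ i, 1 ≤ d i)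
    (hf : ∀ i, (f i).IsHomogeneous (d i))
    (hdim : ringKrullDim (MvPolynomial (Fin (n + 1)) k ⧸ Ideal.span (Set.range f)) ≤ 1) :
    ∀ i (hi : i ≤ n), ∃ (S : Multiset ℕ) (m₀ : ℕ), S.card = ∏ j : Fin i, d (Fin.castLE hi j) ∧
      (∀ s ∈ S, s ≤ m₀) ∧ ∀ m, m₀ ≤ m → hilb (Ideal.span (f '' {j | (j : ℕ) < i})) m =
        ((S.map fun s => (m - s + (n - i)).choose (n - i)).sum : ℕ) := by
  intro i
  induction i with
  | zero =>
    intro _
    refine ⟨{0}, 0, by simp, by simp, fun m _ => ?_⟩
    have h0 : Ideal.span (f '' {j : Fin n | (j : ℕ) < 0}) = ⊥ := by simp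
    show (Module.finrank k ↥(homogeneousSubmodule (Fin (n + 1)) k m) : ℤ) - _ = _
    rw [h0, Submodule.restrictScalars_bot, bot_inf_eq, finrank_bot, finrank_forms]
    simp
  | succ i ih =>
    intro hi
    obtain ⟨S, m₀, hcard, hle, hS⟩ := ih (by omega)
    set i' : Fin n := ⟨i, by omega⟩ with hi'
    set D := d i'
    refine ⟨S.bind fun s => (Multiset.range D).map (s + ·), m₀ + D, ?_, ?_, ?_⟩
    · rw [Multiset.card_bind, Fin.prod_univ_castSucc]
      simp only [Function.comp_def, Multiset.card_map, Multiset.card_range, Multiset.map_const',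
        Multiset.sum_replicate, smul_eq_mul, hcard]
      rfl
    · intro t ht
      simp only [Multiset.mem_bind, Multiset.mem_map, Multiset.mem_range] at ht
      obtain ⟨s, hs, j, hj, rfl⟩ := ht
      have := hle s hs
      omega
    · intro m hm
      obtain ⟨m, rfl⟩ : ∃ m', m = m' + D := ⟨m - D, by omega⟩
      have hset : Ideal.span (f '' {j | (j : ℕ) < i + 1}) =
          Ideal.span (f '' {j | (j : ℕ) < i}) ⊔ Ideal.span {f i'} := by
        rw [← Ideal.span_union]
        congr 1
        ext y
        constructor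
        · rintro ⟨j, hj, rfl⟩
          rcases Nat.lt_succ_iff_lt_or_eq.1 hj with h | h
          · exact Or.inl ⟨j, h, rfl⟩
          · exact Or.inr (by rw [show j = i' from Fin.ext h]; rfl)
        · rintro (⟨j, hj, rfl⟩ | rfl)
          · exact ⟨j, Nat.lt_succ_of_lt (show (j : ℕ) < i from hj), rfl⟩
          · exact ⟨i', Nat.lt_succ_self _, rfl⟩
      rw [hset, hilb_sup (J := Ideal.span (f '' {j : Fin n | (j : ℕ) < i})) (CMGraded.isHomog_span (by rintro g ⟨j, -, rfl⟩; exact ⟨d j, hf j⟩)) (hf i')
        (fun x hx => regular_step f d hd hf hdim i' x hx) m, hS _ (by omega), hS _ (by omega)]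
      rw [sub_eq_iff_eq_add, ← Nat.cast_add, Nat.cast_inj, Multiset.map_bind, Multiset.sum_bind,
        ← Multiset.sum_map_add]
      refine congrArg Multiset.sum (Multiset.map_congr rfl fun s hs => ?_)
      have := hle s hs
      simp only [Multiset.map_map, Function.comp_def]
      have key : ∀ (e a : ℕ), ∀ D, D ≤ a →
          (a + (e + 1)).choose (e + 1) =
            ((Multiset.range D).map fun j => (a - j + e).choose e).sum + (a - D + (e + 1)).choose (e + 1) := by
        intro e a D
        induction D with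
        | zero => simp
        | succ D ihD =>
          intro hD
          rw [ihD (by omega), Multiset.range_succ, Multiset.map_cons, Multiset.sum_cons,
            show a - D + (e + 1) = (a - D + e) + 1 by omega, Nat.choose_succ_succ,
            show a - (D + 1) + (e + 1) = a - D + e by omega]
          ring
      have he : n - i = (n - (i + 1)) + 1 := by omega
      rw [he, key (n - (i + 1)) (m + D - s) D (by omega), show m + D - s - D = m - s by omega]
      congr 1
      refine congrArg Multiset.sum (Multiset.map_congr rfl fun j hj => ?_)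
      rw [show m + D - (s + j) = m + D - s - j by omega]

theorem finrank_sub_eq (f : Fin n → MvPolynomial (Fin (n + 1)) k) (d : Fin n → ℕ) (hd : ∀ i, 1 ≤ d i)
    (hf : ∀ i, (f i).IsHomogeneous (d i))
    (hdim : ringKrullDim (MvPolynomial (Fin (n + 1)) k ⧸ Ideal.span (Set.range f)) ≤ 1) :
    ∃ m₀ : ℕ, ∀ m : ℕ, m₀ ≤ m →
      Module.finrank k ↥(homogeneousSubmodule (Fin (n + 1)) k m) -
        Module.finrank k ↥((Ideal.span (Set.range f)).restrictScalars k ⊓ homogeneousSubmodule (Fin (n + 1)) k m) =
      ∏ i : Fin n, d i := by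
  obtain ⟨S, m₀, hcard, -, hS⟩ := hilb_eq f d hd hf hdim n le_rfl
  refine ⟨m₀, fun m hm => ?_⟩
  have := hS m hm
  rw [show {j : Fin n | (j : ℕ) < n} = Set.univ from Set.eq_univ_of_forall fun j => j.2,
    Set.image_univ] at this
  simp only [hilb, Nat.sub_self, Nat.choose_zero_right, Multiset.map_const', Multiset.sum_replicate,
    smul_eq_mul, mul_one, hcard, Fin.castLE_rfl, id_eq] at this
  omega

end BezoutCILib
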